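import Mathlib.RingTheory.LocalRing.Module
import Mathlib.RingTheory.Finiteness.Descent
import Mathlib.RingTheory.Flat.FaithfullyFlat.Basic
import Mathlib.LinearAlgebra.Dimension.Constructions
import Mathlib.LinearAlgebra.TensorProduct.Tower
import Mathlib.RingTheory.TensorProduct.Finite
import Mathlib.LinearAlgebra.Dimension.StrongRankCondition
import Mathlib.RingTheory.IsTensorProduct

/-! A module trivialised by a faithfully flat extension of a semilocal ring. -/

set_option autoImplicit false

universe u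

open TensorProduct

namespace Groth.Agent.PicSemi31

theorem exists_isUnit {R R' P : Type u} [CommRing R] [Finite (MaximalSpectrum R)] [CommRing R'] [Algebra R R']
    [Module.FaithfullyFlat R R'] [AddCommGroup P] [Module R P] (η : P →ₗ[R] R')
    (hb : Function.Bijective (η.liftBaseChange R')) : ∃ s : P, IsUnit (η s) := by
  let E : R' ⊗[R] P ≃ₗ[R'] R' := LinearEquiv.ofBijective (η.liftBaseChange R') hb
  haveI : Module.Finite R' (R' ⊗[R] P) := Module.Finite.equiv E.symm
  haveI : Module.Flat R' (R' ⊗[R] P) := Module.Flat.of_linearEquiv E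
  haveI : Module.Finite R P := Module.Finite.of_finite_tensorProduct_of_faithfullyFlat R'
  haveI : Module.Flat R P := Module.Flat.of_flat_tensorProduct R P R'
  obtain ⟨b⟩ := Module.nonempty_basis_of_flat_of_finrank_eq R P 1 fun m => by
    let _ := Ideal.Quotient.field m.1
    let S := (R ⧸ m.1) ⊗[R] R'
    letI : Algebra R' S := Algebra.TensorProduct.rightAlgebra
    haveI : Nontrivial S := Module.FaithfullyFlat.rTensor_nontrivial R R' (R ⧸ m.1)
    haveI : IsScalarTower R R' S := IsScalarTower.of_algebraMap_eq fun r => by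
      show algebraMap R S r = (1 : R ⧸ m.1) ⊗ₜ[R] algebraMap R R' r
      rw [Algebra.algebraMap_eq_smul_one (A := R'), TensorProduct.tmul_smul, ← Algebra.TensorProduct.one_def,
        ← Algebra.algebraMap_eq_smul_one]
    let e1 : S ⊗[R'] (R' ⊗[R] P) ≃ₗ[S] S ⊗[R] P := AlgebraTensorModule.cancelBaseChange R R' S S P
    let e2 : S ⊗[R'] (R' ⊗[R] P) ≃ₗ[S] S :=
      (AlgebraTensorModule.congr (LinearEquiv.refl S S) E).trans (AlgebraTensorModule.rid R' S S)
    let e3 : S ⊗[R ⧸ m.1] ((R ⧸ m.1) ⊗[R] P) ≃ₗ[S] S ⊗[R] P :=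
      AlgebraTensorModule.cancelBaseChange R (R ⧸ m.1) S S P
    have h := (e3.trans (e1.symm.trans e2)).finrank_eq
    rwa [Module.finrank_baseChange, Module.finrank_self] at h
  refine ⟨b 0, ?_⟩
  obtain ⟨z, hz⟩ := E.surjective 1
  have hmem : ∀ w : R' ⊗[R] P, E w ∈ Ideal.span {η (b 0)} := fun w => by
    induction w with
    | zero => rw [LinearEquiv.map_zero E]; exact Submodule.zero_mem _
    | add x y hx hy => rw [LinearEquiv.map_add E]; exact add_mem hx hy
    | tmul r p =>
      show η.liftBaseChange R' (r ⊗ₜ[R] p) ∈ _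
      rw [LinearMap.liftBaseChange_tmul, ← b.sum_repr p, Fin.sum_univ_one, map_smul, smul_eq_mul, Algebra.smul_def]
      exact Ideal.mul_mem_left _ _ (Ideal.mul_mem_left _ _ (Ideal.mem_span_singleton_self _))
  have h1 := hmem z
  rw [hz, Ideal.mem_span_singleton] at h1
  exact isUnit_of_dvd_one h1

end Groth.Agent.PicSemi31
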