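import Groth.Agent.PicSemi31.Algebra
import Groth.Agent.Curves2.Genus0.H0BC
import Groth.Agent.Props58.PullTensor
import Groth.Agent.PP93.PicInj
import Groth.Agent.FlatMor68.PullbackDescent
import Groth.Agent.Mero90.Triv
import Mathlib.AlgebraicGeometry.Morphisms.Flat
import Mathlib.Algebra.Category.Ring.Constructions

/-! Invertible modules trivial after a faithfully flat extension, semilocal global functions. -/

set_option autoImplicit false
set_option backward.isDefEq.respectTransparency false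
set_option backward.isDefEq.respectTransparency.types false
set_option linter.style.haveILetI false

noncomputable section

universe u

open CategoryTheory Limits AlgebraicGeometry TopologicalSpace TensorProduct
open Groth.Agent.Desc59 Groth.Agent.Var76.LineBundle

namespace Groth.Agent.PicSemi31

variable {X Y X' Y' : Scheme.{u}} (f : X ⟶ Y) (g : Y' ⟶ Y) (f' : X' ⟶ Y') (g' : X' ⟶ X)

theorem isFrame_strSect_unit (Z : Scheme.{u}) (U : Z.Opens) {u : Γ(Z, U)} (hu : IsUnit u) :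
    IsFrame (Coh.structureModule Z) U (OmegaSh.strSect Z U u) := by
  intro V h
  have hv : IsUnit (Z.presheaf.map (homOfLE h).op u) := hu.map (Z.presheaf.map (homOfLE h).op).hom
  obtain ⟨w, hw⟩ := hv.exists_right_inv
  refine Function.bijective_iff_has_inverse.2
    ⟨fun x => OmegaSh.fnSect Z V x * w, fun a => ?_, fun x => ?_⟩
  · show a * Z.presheaf.map (homOfLE h).op u * w = a
    rw [mul_assoc, hw, mul_one]
  · show OmegaSh.fnSect Z V x * w * Z.presheaf.map (homOfLE h).op u = OmegaSh.fnSect Z V x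
    rw [mul_assoc, mul_comm w, hw, mul_one]

theorem iso_structure [IsAffine Y] [IsAffine Y'] [CompactSpace X] [QuasiSeparatedSpace X]
    [Flat g] [Surjective g] (H : IsPullback g' f' f g) (hsl : Finite (MaximalSpectrum Γ(X, ⊤)))
    (L : X.Modules) (hL : PicF.IsInvertible L)
    (e : (Scheme.Modules.pullback g').obj L ≅ Coh.structureModule X') :
    Nonempty (L ≅ Coh.structureModule X) := by
  haveI : L.IsQuasicoherent := Mero90.isQCoh_of_isInvertible hL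
  haveI : (Coh.structureModule X).IsQuasicoherent := Div89.isQCoh_structureModule _
  haveI : Flat g' := MorphismProperty.of_isPullback (P := @Flat) H.flip inferInstance
  haveI : Surjective g' := MorphismProperty.of_isPullback (P := @Surjective) H.flip inferInstance
  letI : Algebra Γ(Y, ⊤) Γ(Y', ⊤) := g.appTop.hom.toAlgebra
  letI : Algebra Γ(Y, ⊤) Γ(X, ⊤) := (f.appLE ⊤ ⊤ le_top).hom.toAlgebra
  letI : Algebra Γ(Y', ⊤) Γ(X', g' ⁻¹ᵁ ⊤) := (f'.appLE ⊤ (g' ⁻¹ᵁ ⊤) le_top).hom.toAlgebra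
  letI : Algebra Γ(X, ⊤) Γ(X', g' ⁻¹ᵁ ⊤) := (g'.app ⊤).hom.toAlgebra
  letI : Algebra Γ(Y, ⊤) Γ(X', g' ⁻¹ᵁ ⊤) :=
    ((algebraMap Γ(Y', ⊤) Γ(X', g' ⁻¹ᵁ ⊤)).comp (algebraMap Γ(Y, ⊤) Γ(Y', ⊤))).toAlgebra
  haveI : IsScalarTower Γ(Y, ⊤) Γ(Y', ⊤) Γ(X', g' ⁻¹ᵁ ⊤) := IsScalarTower.of_algebraMap_eq fun _ => rfl
  have hg : g.appLE ⊤ ⊤ le_top = g.appTop := (Scheme.Hom.app_eq_appLE g (U := ⊤)).symm
  have hg' : g'.appLE ⊤ (g' ⁻¹ᵁ ⊤) le_rfl = g'.app ⊤ := (Scheme.Hom.app_eq_appLE g' (U := ⊤)).symm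
  have hsq : f.appLE ⊤ ⊤ le_top ≫ g'.app ⊤ = g.appTop ≫ f'.appLE ⊤ (g' ⁻¹ᵁ ⊤) le_top := by
    have key : ∀ {X₀ : Scheme.{u}} (a b : X₀ ⟶ Y) (_ : a = b) (U : X₀.Opens) (e₁ : U ≤ a ⁻¹ᵁ ⊤) (e₂ : U ≤ b ⁻¹ᵁ ⊤),
        a.appLE ⊤ U e₁ = b.appLE ⊤ U e₂ := by
      rintro X₀ a b rfl U e₁ e₂; rfl
    rw [← hg, ← hg', Scheme.Hom.appLE_comp_appLE, Scheme.Hom.appLE_comp_appLE]
    exact key _ _ H.w _ _ _
  haveI : IsScalarTower Γ(Y, ⊤) Γ(X, ⊤) Γ(X', g' ⁻¹ᵁ ⊤) :=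
    IsScalarTower.of_algebraMap_eq fun r => (ConcreteCategory.congr_hom hsq r).symm
  haveI hpush : Algebra.IsPushout Γ(Y, ⊤) Γ(X, ⊤) Γ(Y', ⊤) Γ(X', g' ⁻¹ᵁ ⊤) := by
    have h := (isIso_pushoutSection_iff H (US := ⊤) (UT := ⊤) (UX := ⊤) (UY := g' ⁻¹ᵁ ⊤) le_top le_top
      (by simp)).1 (isIso_pushoutSection_of_isQuasiSeparated_of_flat_right H le_top le_top (by simp)
        (isAffineOpen_top _) (isAffineOpen_top _) isCompact_univ isQuasiSeparated_univ)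
    rw [hg, hg'] at h
    exact CommRingCat.isPushout_iff_isPushout.1 h
  haveI := hpush.symm
  haveI : Module.FaithfullyFlat Γ(Y, ⊤) Γ(Y', ⊤) := by
    have h : g.appTop.hom.FaithfullyFlat := (Flat.flat_and_surjective_iff_faithfullyFlat_of_isAffine g).1
      ⟨inferInstance, inferInstance⟩
    exact RingHom.faithfullyFlat_algebraMap_iff.1 h
  haveI : Module.FaithfullyFlat Γ(X, ⊤) Γ(X', g' ⁻¹ᵁ ⊤) :=
    Module.FaithfullyFlat.of_linearEquiv _ _
      (Algebra.IsPushout.equiv Γ(Y, ⊤) Γ(X, ⊤) Γ(Y', ⊤) Γ(X', g' ⁻¹ᵁ ⊤)).toLinearEquiv.symm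
  letI : Module Γ(Y, ⊤) Γ(L, ⊤) := FlatH0.baseModule f L ⊤
  haveI : IsScalarTower Γ(Y, ⊤) Γ(X, ⊤) Γ(L, ⊤) := IsScalarTower.of_algebraMap_smul fun _ _ => rfl
  let φ : Γ((Scheme.Modules.pullback g').obj L, g' ⁻¹ᵁ ⊤) →+ Γ(X', g' ⁻¹ᵁ ⊤) :=
    (OmegaSh.fnSect X' _).comp (e.hom.app (g' ⁻¹ᵁ ⊤)).hom
  have hφb : Function.Bijective φ := ConcreteCategory.bijective_of_isIso (e.hom.app (g' ⁻¹ᵁ ⊤))
  have hφs : ∀ (c : Γ(X', g' ⁻¹ᵁ ⊤)) (w : Γ((Scheme.Modules.pullback g').obj L, g' ⁻¹ᵁ ⊤)),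
      φ (c • w) = c * φ w := fun c w => congrArg (OmegaSh.fnSect X' _) (Scheme.Modules.Hom.app_smul e.hom c w)
  let η : Γ(L, ⊤) →ₗ[Γ(X, ⊤)] Γ(X', g' ⁻¹ᵁ ⊤) :=
    { toFun := fun t => φ (Amp73.pullS g' L ⊤ t)
      map_add' := fun a b => (congrArg φ
        (map_add (((Scheme.Modules.pullbackPushforwardAdjunction g').unit.app L).app ⊤).hom a b)).trans (map_add φ _ _)
      map_smul' := fun r t => (congrArg φ (Amp73.pullS_smul g' L ⊤ r t)).trans (hφs _ _) }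
  have hb : Function.Bijective (η.liftBaseChange Γ(X', g' ⁻¹ᵁ ⊤)) := by
    have hc : (η.liftBaseChange Γ(X', g' ⁻¹ᵁ ⊤)) ∘
        (Algebra.IsPushout.cancelBaseChangeAux Γ(Y, ⊤) Γ(Y', ⊤) Γ(X, ⊤) Γ(X', g' ⁻¹ᵁ ⊤) Γ(L, ⊤)).symm =
        φ ∘ FlatH0.μ f g f' g' L H ⊤ := by
      funext z
      induction z with
      | zero =>
        rw [Function.comp_apply, LinearEquiv.map_zero, map_zero, Function.comp_apply]
        exact ((congrArg φ (map_zero (FlatH0.μ f g f' g' L H ⊤))).trans (map_zero φ)).symm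
      | add a b ha hb => simp only [Function.comp_apply, map_add] at ha hb ⊢; rw [ha, hb]
      | tmul s m =>
        rw [Function.comp_apply, Algebra.IsPushout.cancelBaseChangeAux_symm_tmul, LinearMap.liftBaseChange_tmul,
          smul_eq_mul]
        exact (hφs _ _).symm
    have hμ : Function.Bijective (φ ∘ FlatH0.μ f g f' g' L H ⊤) :=
      hφb.comp (Curves2.Genus0.μ_top_bijective f g f' g' L H)
    rw [← hc] at hμ
    exact (Function.Bijective.of_comp_iff _ (LinearEquiv.bijective _)).1 hμ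
  obtain ⟨s, hs⟩ := exists_isUnit η hb
  let σ : Coh.structureModule X ⟶ L := EGA73.unitHom L s
  have hσ : σ.app ⊤ (OmegaSh.strSect X ⊤ 1) = s := (one_smul Γ(X, ⊤) _).trans (Amp73.res_self L s)
  have hiso : IsIso ((Scheme.Modules.pullback g').map σ) := by
    refine Props58.PullTensor.isIso_of_frames _ fun x => ⟨g' ⁻¹ᵁ ⊤,
      Amp73.pullS g' (Coh.structureModule X) ⊤ (OmegaSh.strSect X ⊤ 1), trivial,
      Props58.PullTensor.isFrame_pullS g' (PP93.isFrame_one X), ?_⟩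
    rw [Amp73.map_app_pullS, hσ, ← Amp73.isFrame_app_iff e.hom]
    exact isFrame_strSect_unit X' _ hs
  haveI : IsIso σ :=
    (FlatMor68.PullbackDescent.of_jointly_surjective σ (ι := PUnit.{1}) (fun _ => g')
      (fun x => ⟨⟨⟩, g'.surjective x⟩)).2.2.1.2 fun _ => hiso
  exact ⟨(asIso σ).symm⟩

end Groth.Agent.PicSemi31
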